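import Groth.Agent.L16.LerayEuler.Shift
import Groth.Agent.L13.LerayFive.Lengths
import Groth.Agent.L03.Euler.Basic
import Groth.Agent.L17.ProperCoh

/-!
# The Euler characteristic as an alternating sum over higher direct images
-/

set_option autoImplicit false
set_option linter.style.haveILetI false
set_option linter.unusedSectionVars false
set_option backward.isDefEq.respectTransparency false
set_option maxHeartbeats 1000000

universe u

open CategoryTheory CategoryTheory.Limits AlgebraicGeometry TopologicalSpace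
open Groth.L16.CohLinear (hmap hmap_comp overLin delta exact_hmap_hmap exact_hmap_delta exact_delta_hmap)
open Groth.L21.RR (h hk e0 e0_hmap)
open Groth.L13.LerayFive (pushH0 pushH0L pushH0_hmap exists_rightDerived_one_cokernel length_quotient_range)

noncomputable section

namespace Groth.L16.LerayEuler

theorem sum_telescope (a : ℕ → ℤ) (N : ℕ) :
    ∑ n ∈ Finset.range N, (-1 : ℤ) ^ n * (a n + a (n + 1)) = a 0 - (-1 : ℤ) ^ N * a N := by
  induction N with
  | zero => simp
  | succ N ih => rw [Finset.sum_range_succ, ih, pow_succ]; ring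

variable (k : Type u) [Field k]

section One

variable {X : Scheme.{u}} [X.Over (Spec (CommRingCat.of k))]

/-- The alternating sum of the cohomology in positive degrees. -/
def tailE (N : ℕ) (M : X.Modules) : ℤ := ∑ q ∈ Finset.range N, (-1 : ℤ) ^ q * (h k (q + 1) M : ℤ)

theorem subsingleton_range {V W : Type u} [AddCommGroup V] [Module k V] [AddCommGroup W] [Module k W]
    (g : V →ₗ[k] W) [Subsingleton W] : Module.finrank k (LinearMap.range g) = 0 :=
  Module.finrank_zero_of_subsingleton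

/-- The rank of the map on global sections from the long exact sequence. -/
theorem range_eq_tail {T : ShortComplex X.Modules} (hT : T.ShortExact) (N : ℕ)
    (f₁ : ∀ q, Module.Finite k (Coh.HH X T.X₁ (q + 1)))
    (f₂ : ∀ q, Module.Finite k (Coh.HH X T.X₂ (q + 1)))
    (f₃ : ∀ q, Module.Finite k (Coh.HH X T.X₃ q)) (hN : Subsingleton (Coh.HH X T.X₃ N)) :
    (Module.finrank k (LinearMap.range (hk k T.g 0)) : ℤ) =
      (∑ q ∈ Finset.range N, (-1 : ℤ) ^ q * (h k q T.X₃ : ℤ)) - tailE k N T.X₁ + tailE k N T.X₂ := by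
  haveI := f₁; haveI := f₂; haveI := f₃
  let a : ℕ → ℤ := fun q => (Module.finrank k (LinearMap.range (hk k T.g q)) : ℤ)
  have key : ∀ q, (h k q T.X₃ : ℤ) - h k (q + 1) T.X₁ + h k (q + 1) T.X₂ = a q + a (q + 1) := fun q => by
    have e₃ : h k q T.X₃ = _ :=
      Groth.L03.Euler.finrank_eq_add (hk k T.g q) (overLin k (delta hT q)) (exact_hmap_delta hT q)
    have e₁ : h k (q + 1) T.X₁ = _ :=
      Groth.L03.Euler.finrank_eq_add (overLin k (delta hT q)) (hk k T.f (q + 1)) (exact_delta_hmap hT q)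
    have e₂ : h k (q + 1) T.X₂ = _ :=
      Groth.L03.Euler.finrank_eq_add (hk k T.f (q + 1)) (hk k T.g (q + 1)) (exact_hmap_hmap hT (q + 1))
    simp only [a, e₁, e₂, e₃, Nat.cast_add]
    ring
  have hs := sum_telescope a N
  have haN : a N = 0 := by simp only [a, subsingleton_range k, Nat.cast_zero]
  rw [haN, mul_zero, sub_zero] at hs
  change a 0 = _
  rw [← hs]
  simp only [← key, mul_add, mul_sub, Finset.sum_add_distrib, Finset.sum_sub_distrib, tailE]

/-- Shifting the alternating sum by one degree. -/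
theorem tailE_shift {M K : X.Modules} (N : ℕ) (hK : ∀ q, h k (q + 1) K = h k (q + 2) M)
    (hN : Subsingleton (Coh.HH X M (N + 1))) : (h k 1 M : ℤ) = tailE k N M + tailE k N K := by
  have hs := sum_telescope (fun q => (h k (q + 1) M : ℤ)) N
  have h0 : h k (N + 1) M = 0 := Module.finrank_zero_of_subsingleton
  simp only [h0, Nat.cast_zero, mul_zero, sub_zero] at hs
  rw [← hs]
  simp only [tailE, hK, mul_add, Finset.sum_add_distrib]

/-- The connecting map is bijective when the middle term is acyclic. -/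
def deltaEquiv {S : ShortComplex X.Modules} (hS : S.ShortExact)
    (hI : ∀ q, Subsingleton (Coh.HH X S.X₂ (q + 1))) (q : ℕ) :
    Coh.HH X S.X₃ (q + 1) ≃ₗ[k] Coh.HH X S.X₁ (q + 2) :=
  LinearEquiv.ofBijective (overLin k (delta hS (q + 1)))
    ⟨(injective_iff_map_eq_zero _).2 fun x hx => by
      obtain ⟨y, rfl⟩ := (exact_hmap_delta hS (q + 1) x).1 hx
      rw [(hI q).elim y 0, map_zero],
    fun z => (exact_delta_hmap hS (q + 1) z).1 ((hI (q + 1)).elim _ _)⟩

end One

variable {X Y : Scheme.{u}} [X.Over (Spec (CommRingCat.of k))] [Y.Over (Spec (CommRingCat.of k))]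
  (f : Y ⟶ X)

attribute [local instance] Groth.L17.PushQCoh.additive_push

variable [HasInjectiveResolutions Y.Modules]

/-- Cohomology of an injective module's direct image vanishes in positive degrees. -/
theorem subsingleton_HH_push_injective (I : Y.Modules) [Injective I] (q : ℕ) :
    Subsingleton (Coh.HH X ((Scheme.Modules.pushforward f).obj I) (q + 1)) := by
  haveI : TopCat.Sheaf.IsFlasque (X := Y.toTopCat) (Coh.toAb I) := Groth.L17.PushMV.isFlasque_of_injective I
  exact Groth.L10.TopCoh.subsingleton_H_of_flasque (X := X.toTopCat)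
    (Coh.toAb ((Scheme.Modules.pushforward f).obj I))
    (show TopCat.Sheaf.IsFlasque (Coh.toAb ((Scheme.Modules.pushforward f).obj I)) from
      TopCat.Sheaf.IsFlasque.pushforward_isFlasque (Y := X.toTopCat) (Coh.toAb I) f.base) q

variable (hf : f ≫ (X ↘ Spec (CommRingCat.of k)) = Y ↘ Spec (CommRingCat.of k))

include hf in
/-- One step of the dimension shifting. -/
theorem exists_next (M : Y.Modules) (N : ℕ)
    (finY : ∀ i, Module.Finite k (Coh.HH Y M (i + 1)))
    (finX : ∀ q, Module.Finite k (Coh.HH X ((Scheme.Modules.pushforward f).obj M) (q + 1)))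
    (finR : ∀ q, Module.Finite k (Coh.HH X ((Coh.Rpush f 1).obj M) q))
    (hN : Subsingleton (Coh.HH X ((Scheme.Modules.pushforward f).obj M) (N + 1)))
    (hR : Subsingleton (Coh.HH X ((Coh.Rpush f 1).obj M) N)) :
    ∃ M' : Y.Modules,
      (∀ i, Nonempty ((Coh.Rpush f (i + 1)).obj M' ≅ (Coh.Rpush f (i + 2)).obj M)) ∧
      (∀ i, Module.Finite k (Coh.HH Y M' (i + 1)) ∧ h k (i + 1) M' = h k (i + 2) M) ∧
      (∀ q, Module.Finite k (Coh.HH X ((Scheme.Modules.pushforward f).obj M') (q + 1))) ∧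
      (∀ q, Subsingleton (Coh.HH X ((Scheme.Modules.pushforward f).obj M) (q + 2)) →
        Subsingleton (Coh.HH X ((Coh.Rpush f 1).obj M) (q + 1)) →
        Subsingleton (Coh.HH X ((Scheme.Modules.pushforward f).obj M') (q + 1))) ∧
      (h k 1 M : ℤ) = (∑ q ∈ Finset.range N, (-1 : ℤ) ^ q * (h k q ((Coh.Rpush f 1).obj M) : ℤ)) +
        tailE k N ((Scheme.Modules.pushforward f).obj M) + tailE k N ((Scheme.Modules.pushforward f).obj M') := by
  haveI := Groth.L00.Tensor.grothendieckAbelian_modules Y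
  let P := Scheme.Modules.pushforward f
  haveI : PreservesLimitsOfSize.{0, 0} P :=
    (Scheme.Modules.pullbackPushforwardAdjunction f).rightAdjoint_preservesLimits
  haveI : PreservesFiniteLimits P := PreservesLimitsOfSize.preservesFiniteLimits P
  obtain ⟨S, rfl, hS, hI, ⟨eR⟩⟩ := exists_rightDerived_one_cokernel P M
  haveI := hI
  haveI := hS.mono_f
  haveI : Mono (P.map S.f) := inferInstance
  let T₁ := ShortComplex.mk (P.map S.f) (cokernel.π (P.map S.f)) (cokernel.condition _)
  have hT₁ : T₁.ShortExact := { exact := ShortComplex.exact_cokernel _ }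
  let κ : cokernel (P.map S.f) ⟶ P.obj S.X₃ :=
    cokernel.desc _ (P.map S.g) (by rw [← P.map_comp, S.zero, P.map_zero])
  have hex : (S.map P).Exact := by
    haveI : Mono (S.map P).f := inferInstanceAs (Mono (P.map S.f))
    exact ShortComplex.exact_of_f_is_kernel _ (isLimitForkMapOfIsLimit' P _ hS.fIsKernel)
  haveI : Mono κ := hex.mono_cokernelDesc
  have hπκ : cokernel.π (P.map S.f) ≫ κ = P.map S.g := cokernel.π_desc _ _ _
  let T₂ := ShortComplex.mk κ (cokernel.π κ) (cokernel.condition _)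
  have hT₂ : T₂.ShortExact := { exact := ShortComplex.exact_cokernel _ }
  let eC : (Coh.Rpush f 1).obj S.X₁ ≅ cokernel κ :=
    eR ≪≫ cokernelIsoOfEq hπκ.symm ≪≫ cokernelEpiComp (cokernel.π (P.map S.f)) κ
  have hI' : ∀ q, Subsingleton (Coh.HH Y S.X₂ (q + 1)) := fun q =>
    Groth.L22.PDual.subsingleton_HH_injective S.X₂ q
  have hPI : ∀ q, Subsingleton (Coh.HH X (P.obj S.X₂) (q + 1)) := subsingleton_HH_push_injective f S.X₂
  let dX := fun q => deltaEquiv k (S := T₁) hT₁ hPI q
  haveI := finX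
  haveI : ∀ q, Module.Finite k (Coh.HH X T₂.X₁ (q + 1)) := fun q =>
    haveI : Module.Finite k (Coh.HH X T₁.X₁ (q + 1 + 1)) := finX (q + 1)
    Module.Finite.equiv (dX q).symm
  haveI hfC : ∀ q, Module.Finite k (Coh.HH X T₂.X₃ q) := fun q =>
    haveI := finR q
    Groth.L16.CohLinear.finite_of_iso k eC q
  have finP : ∀ q, Module.Finite k (Coh.HH X (P.obj S.X₃) (q + 1)) := fun q =>
    Groth.L16.CohLinear.finite_middle k hT₂ (q + 1)
  refine ⟨S.X₃, fun i => nonempty_shift P hS i, fun i => ?_, finP, fun q h₁ h₂ => ?_, ?_⟩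
  · let dY := deltaEquiv k hS hI' i
    haveI := finY (i + 1)
    exact ⟨Module.Finite.equiv dY.symm, dY.finrank_eq⟩
  · haveI hK : Subsingleton (Coh.HH X T₂.X₁ (q + 1)) := (dX q).toEquiv.subsingleton
    have hC : ∀ z : Coh.HH X T₂.X₃ (q + 1), z = 0 := fun z => by
      rw [← Groth.L16.CohLinear.hmap_id (q + 1) z, ← eC.inv_hom_id, hmap_comp, h₂.elim (hmap eC.inv _ z) 0,
        map_zero]
    refine subsingleton_of_forall_eq 0 fun x => ?_
    obtain ⟨y, hy⟩ := (exact_hmap_hmap hT₂ (q + 1) x).1 (hC _)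
    rw [← hy, hK.elim y 0, map_zero]
  · let u : Coh.HH X (P.obj S.X₂) 0 →ₗ[k] Coh.HH X T₁.X₃ 0 := hk k T₁.g 0
    let v : Coh.HH X T₁.X₃ 0 →ₗ[k] Coh.HH Y S.X₃ 0 :=
      (pushH0L f hf S.X₃).toLinearMap.comp (hk k κ 0)
    let w : Coh.HH Y S.X₃ 0 →ₗ[k] Coh.HH X T₂.X₃ 0 :=
      (hk k T₂.g 0).comp (pushH0L f hf S.X₃).symm.toLinearMap
    have hv : Function.Injective v :=
      (pushH0L f hf S.X₃).injective.comp (Groth.L03.Euler.injective_hmap_zero hT₂)
    have hvu : ∀ x, v (u x) = hmap S.g 0 (pushH0 f S.X₂ x) := fun x => by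
      show pushH0 f S.X₃ (hmap κ 0 (hmap T₁.g 0 x)) = _
      rw [← hmap_comp, show T₁.g ≫ κ = P.map S.g from hπκ, pushH0_hmap]
    have hex₁ : Function.Exact (v.comp u) (overLin k (delta hS 0)) := fun q => by
      refine (exact_hmap_delta hS 0 q).trans ⟨fun ⟨x, hx⟩ => ?_, fun ⟨x, hx⟩ => ?_⟩
      · refine ⟨(pushH0 f S.X₂).symm x, ?_⟩
        rw [LinearMap.comp_apply, hvu, AddEquiv.apply_symm_apply, hx]
      · exact ⟨pushH0 f S.X₂ x, (hvu x).symm.trans hx⟩
    have hex₂ : Function.Exact v w.rangeRestrict := fun q => by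
      rw [Subtype.ext_iff]
      refine (exact_hmap_hmap hT₂ 0 ((pushH0L f hf S.X₃).symm q)).trans ⟨fun ⟨x, hx⟩ => ⟨x, ?_⟩, fun ⟨x, hx⟩ => ⟨x, ?_⟩⟩
      · exact (congrArg (pushH0L f hf S.X₃) hx).trans ((pushH0L f hf S.X₃).apply_symm_apply q)
      · exact ((LinearEquiv.symm_apply_eq _).2 hx.symm).symm
    have hmain := length_quotient_range u v hv (overLin k (delta hT₁ 0))
      (fun z => exact_hmap_delta hT₁ 0 z) (fun z => (exact_delta_hmap hT₁ 0 z).1 ((hPI 0).elim _ _))
      (overLin k (delta hS 0)) hex₁ (fun z => (exact_delta_hmap hS 0 z).1 ((hI' 0).elim _ _))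
      w.rangeRestrict hex₂ w.surjective_rangeRestrict
    haveI := finY 0
    haveI : Module.Finite k (Coh.HH X T₁.X₁ (0 + 1)) := finX 0
    rw [Module.length_eq_finrank, Module.length_eq_finrank, Module.length_eq_finrank] at hmain
    have hw : LinearMap.range w = LinearMap.range (hk k T₂.g 0) :=
      LinearMap.range_comp_of_range_eq_top _ (pushH0L f hf S.X₃).symm.range
    rw [hw] at hmain
    have h1 : (h k 1 S.X₁ : ℤ) = (h k 1 (P.obj S.X₁) : ℤ) +
        (Module.finrank k (LinearMap.range (hk k T₂.g 0)) : ℤ) := by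
      exact_mod_cast hmain
    haveI := hR
    have hCN : Subsingleton (Coh.HH X T₂.X₃ N) := subsingleton_of_forall_eq 0 fun z => by
      rw [← Groth.L16.CohLinear.hmap_id N z, ← eC.inv_hom_id, hmap_comp, hR.elim (hmap eC.inv _ z) 0, map_zero]
    have hs := tailE_shift k (M := P.obj S.X₁) (K := T₂.X₁) N (fun q => (dX q).finrank_eq) hN
    rw [h1, range_eq_tail k hT₂ N inferInstance finP hfC hCN, hs]
    have hc : ∀ q, h k q T₂.X₃ = h k q ((Coh.Rpush f 1).obj S.X₁) := fun q => Groth.L21.RR.h_congr k eC.symm q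
    simp only [hc]
    ring

variable [IsProper (X ↘ Spec (CommRingCat.of k))] [IsProper (Y ↘ Spec (CommRingCat.of k))]

include hf in
/-- The Leray formula for Euler characteristics. -/
theorem euler_eq_finsum (G : Y.Modules) (hG : Coh.IsCoh G) :
    Curv2.euler k Y G = ∑ᶠ i : ℕ, (-1 : ℤ) ^ i * Curv2.euler k X ((Coh.Rpush f i).obj G) := by
  haveI := Groth.L21.RR.isNoetherian_of_proper (X := X) k
  haveI := Groth.L21.RR.isNoetherian_of_proper (X := Y) k
  haveI : IsProper (f ≫ (X ↘ Spec (CommRingCat.of k))) := by rw [hf]; infer_instance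
  haveI : IsProper f := IsProper.of_comp f (X ↘ Spec (CommRingCat.of k))
  haveI : Coh.IsQCoh G := hG.1
  let P := Scheme.Modules.pushforward f
  haveI : PreservesLimitsOfSize.{0, 0} P :=
    (Scheme.Modules.pullbackPushforwardAdjunction f).rightAdjoint_preservesLimits
  haveI : PreservesFiniteLimits P := PreservesLimitsOfSize.preservesFiniteLimits P
  have hcR : ∀ i, Coh.IsCoh ((Coh.Rpush f i).obj G) := Groth.L17.ProperCoh.isCoh_Rpush f G hG
  let e₀ : (Coh.Rpush f 0).obj G ≅ P.obj G := P.rightDerivedZeroIsoSelf.app G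
  have hc0 : Coh.IsCoh (P.obj G) := Groth.L16.CohSupport.isCoh_of_iso e₀ (hcR 0)
  obtain ⟨N, hN⟩ := Groth.L03.Euler.exists_bound (k := k) (X := X)
  obtain ⟨NY, hNY⟩ := Groth.L03.Euler.exists_bound (k := k) (X := Y)
  obtain ⟨J, hJ⟩ := exists_rpush_bound f G
  have hvR : ∀ i q, N ≤ q ∨ J ≤ i → Subsingleton (Coh.HH X ((Coh.Rpush f i).obj G) q) := fun i q hq =>
    hq.elim (hN _ (hcR i).1 q) fun h => Groth.L03.Euler.subsingleton_HH_of_isZero (hJ i h) q
  have hχ : ∀ i, Curv2.euler k X ((Coh.Rpush f i).obj G) =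
      ∑ q ∈ Finset.range N, (-1 : ℤ) ^ q * (h k q ((Coh.Rpush f i).obj G) : ℤ) := fun i =>
    Groth.L03.Euler.euler_eq_sum fun q hq => hvR i q (Or.inl hq)
  have main : ∀ n, ∃ M : Y.Modules,
      (∀ i, Nonempty ((Coh.Rpush f (i + 1)).obj M ≅ (Coh.Rpush f (n + i + 1)).obj G)) ∧
      (∀ i, Module.Finite k (Coh.HH Y M (i + 1)) ∧ h k (i + 1) M = h k (n + i + 1) G) ∧
      (∀ q, Module.Finite k (Coh.HH X (P.obj M) (q + 1))) ∧
      (∀ q, (N ≤ q + 1 ∨ N + J ≤ q + 1 + n) → Subsingleton (Coh.HH X (P.obj M) (q + 1))) ∧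
      ∑ j ∈ Finset.range (n + 1), (-1 : ℤ) ^ j * (h k j G : ℤ) =
        ∑ j ∈ Finset.range (n + 1), (-1 : ℤ) ^ j * Curv2.euler k X ((Coh.Rpush f j).obj G) +
          (-1 : ℤ) ^ n * tailE k N (P.obj M) := by
    intro n
    induction n with
    | zero =>
      refine ⟨G, fun i => ⟨eqToIso (by rw [zero_add])⟩,
        fun i => ⟨Groth.L16.ProperFinite.finite_HH k hG _, by rw [zero_add]⟩,
        fun q => Groth.L16.ProperFinite.finite_HH k hc0 _,
        fun q hq => hN _ hc0.1 _ (hq.elim id fun h => by omega), ?_⟩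
      have hE : Curv2.euler k X ((Coh.Rpush f 0).obj G) = (h k 0 G : ℤ) - tailE k N (P.obj G) := by
        rw [Groth.L21.RR.euler_congr k e₀,
          Groth.L03.Euler.euler_eq_sum (N := N + 1) fun q hq => hN _ hc0.1 q (by omega),
          Finset.sum_range_succ', show Module.finrank k (Coh.HH X (P.obj G) 0) = h k 0 G from
            (pushH0L f hf G).finrank_eq, tailE]
        simp only [pow_succ, mul_neg_one, neg_mul, Finset.sum_neg_distrib, pow_zero, one_mul, h]
        ring
      simp [hE]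
    | succ n ih =>
      obtain ⟨M, hiso, hY, hfin, hvan, hsum⟩ := ih
      obtain ⟨e₁⟩ := hiso 0
      have hc₁ : Coh.IsCoh ((Coh.Rpush f 1).obj M) :=
        Groth.L16.CohSupport.isCoh_of_iso e₁.symm (hcR (n + 0 + 1))
      obtain ⟨M', hiso', hY', hfin', hvan', hstep⟩ := exists_next k f hf M N (fun i => (hY i).1) hfin
        (fun q => Groth.L16.ProperFinite.finite_HH k hc₁ q) (hvan N (Or.inl (by omega))) (hN _ hc₁.1 N le_rfl)
      refine ⟨M', fun i => ?_, fun i => ⟨(hY' i).1, ?_⟩, hfin', fun q hq => ?_, ?_⟩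
      · obtain ⟨a⟩ := hiso' i
        obtain ⟨b⟩ := hiso (i + 1)
        exact ⟨a ≪≫ b ≪≫ eqToIso (by rw [show n + (i + 1) + 1 = n + 1 + i + 1 by omega])⟩
      · rw [(hY' i).2, (hY (i + 1)).2, show n + (i + 1) + 1 = n + 1 + i + 1 by omega]
      · refine hvan' q (hvan (q + 1) (by omega)) ?_
        haveI := hvR (n + 0 + 1) (q + 1) (by omega)
        exact subsingleton_of_forall_eq 0 fun z => by
          rw [← Groth.L16.CohLinear.hmap_id (q + 1) z, ← e₁.hom_inv_id, hmap_comp,
            Subsingleton.elim (hmap e₁.hom _ z) 0, map_zero]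
      · have hr : ∀ q, h k q ((Coh.Rpush f 1).obj M) = h k q ((Coh.Rpush f (n + 1)).obj G) :=
          fun q => Groth.L21.RR.h_congr k e₁ q
        simp only [hr, ← hχ] at hstep
        rw [(hY 0).2] at hstep
        rw [Finset.sum_range_succ _ (n + 1), Finset.sum_range_succ _ (n + 1), hsum, hstep, pow_succ]
        ring
  obtain ⟨M, -, -, -, hvan, hsum⟩ := main (N + J + NY)
  have hE : tailE k N (P.obj M) = 0 := Finset.sum_eq_zero fun q _ => by
    haveI := hvan q (Or.inr (by omega))
    rw [h, Module.finrank_zero_of_subsingleton, Nat.cast_zero, mul_zero]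
  rw [hE, mul_zero, add_zero] at hsum
  rw [Groth.L03.Euler.euler_eq_sum (N := N + J + NY + 1) fun q hq => hNY _ hG.1 q (by omega),
    finsum_eq_sum_of_support_subset _ (s := Finset.range (N + J + NY + 1)) fun i hi => ?_]
  · exact hsum
  · by_contra hc
    rw [Finset.coe_range, Set.mem_Iio, not_lt] at hc
    exact hi (by simp [Groth.L03.Euler.euler_of_isZero (k := k) (hJ i (by omega))])

end Groth.L16.LerayEuler
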