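import Groth.Agent.L16.LerayEuler.Main
import Groth.Agent.L19.VanishFibre.Noetherian
import Groth.Agent.L21.RR.Coh
import Groth.Agent.L06.FibTrdeg
import Groth.Agent.L06.NormalAscent
import Groth.Agent.L03.Euler.Dim
import Groth.Agent.L03.BlowPt.EulerInv
import Groth.Agent.L16.SecComp.Smooth
import Groth.Agent.L21.Curve.SmoothDescent
import Groth.Agent.L05.LocalForm.Main

/-!
# Vanishing of the first higher direct image of a resolution of a surface, by Euler characteristics
-/

set_option autoImplicit false
set_option linter.style.haveILetI false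
set_option linter.unusedSectionVars false
set_option backward.isDefEq.respectTransparency false

universe u

open CategoryTheory CategoryTheory.Limits AlgebraicGeometry TopologicalSpace Opposite
open Groth.L21.RR (h SuppClosed)

noncomputable section

namespace Groth.L16.LerayEuler

variable {X S : Scheme.{u}}

/-- A module supported at closed points with no global sections is zero. -/
theorem isZero_of_suppClosed [IsNoetherian X] {M : X.Modules} (hM : SuppClosed M)
    (h0 : Subsingleton (Coh.HH X M 0)) : IsZero M := by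
  rw [Groth.L21.Mod.isZero_iff_stalk_subsingleton]
  intro x
  refine subsingleton_of_forall_eq 0 fun z => ?_
  obtain ⟨V, hx, s, rfl⟩ := TopCat.Presheaf.exists_germ_eq M.presheaf z
  have hfl := Groth.L21.RR.isFlasque_of_suppClosed hM
  have hsurj := (AddCommGrpCat.epi_iff_surjective _).1
    (hfl.epi (homOfLE (le_top : V ≤ ⊤)).op)
  obtain ⟨t, ht⟩ := hsurj s
  have ht0 : (show Γ(M, ⊤) from t) = 0 := by
    haveI := (Groth.L21.RR.e0 M).symm.toEquiv.subsingleton
    exact Subsingleton.elim _ _
  rw [show s = 0 from ht.symm.trans (by rw [show t = 0 from ht0, map_zero]), map_zero]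

variable (π : S ⟶ X)

/-- The fibre over a point where the morphism is an isomorphism is zero-dimensional. -/
theorem fiber_dim_le_zero (U : X.Opens) [IsIso (π ∣_ U)] {y : X} (hy : y ∈ U) :
    topologicalKrullDim ↥(π.fiber y) ≤ (0 : ℕ) := by
  haveI : Subsingleton ↑(π.base ⁻¹' {y}) := by
    refine ⟨fun ⟨a, ha⟩ ⟨b, hb⟩ => Subtype.ext ?_⟩
    have ha' : π.base a = y := ha
    have hb' : π.base b = y := hb
    have hbij := (Scheme.homeoOfIso (asIso (π ∣_ U))).injective
    let A : ↥(π ⁻¹ᵁ U) := ⟨a, show π.base a ∈ U from ha' ▸ hy⟩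
    let B : ↥(π ⁻¹ᵁ U) := ⟨b, show π.base b ∈ U from hb' ▸ hy⟩
    have hAB : (π ∣_ U) A = (π ∣_ U) B := by
      apply Subtype.ext
      rw [morphismRestrict_base_coe, morphismRestrict_base_coe]
      exact ha'.trans hb'.symm
    exact (congrArg Subtype.val (hbij hAB) :)
  haveI : Subsingleton ↥(π.fiber y) := (π.fiberHomeo y).toEquiv.subsingleton
  rcases isEmpty_or_nonempty ↥(π.fiber y) with he | hne
  · rw [topologicalKrullDim, Order.krullDim_eq_bot_iff.2 ⟨fun Z => (he.false Z.isIrreducible.nonempty.some)⟩]
    exact bot_le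
  · exact (topologicalKrullDim_zero_of_discreteTopology _).trans_eq Nat.cast_zero.symm

variable (k : Type u) [Field k] [X.Over (Spec (CommRingCat.of k))] [S.Over (Spec (CommRingCat.of k))]
  [IsProper (X ↘ Spec (CommRingCat.of k))] [IsProper (S ↘ Spec (CommRingCat.of k))]
  (hπ : π ≫ (X ↘ Spec (CommRingCat.of k)) = S ↘ Spec (CommRingCat.of k))

include hπ in
/-- For a modification with fibres of dimension at most one, whose exceptional values are closed
points, the first higher direct image of the structure sheaf vanishes iff Euler characteristics agree. -/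
theorem isZero_RpushAb_one_iff
    (e : (Scheme.Modules.pushforward π).obj (Coh.structureModule S) ≅ Coh.structureModule X)
    (U : X.Opens) [IsIso (π ∣_ U)] (hU : ∀ x : X, ¬ IsClosed ({x} : Set X) → x ∈ U)
    (hd : ∀ x : X, topologicalKrullDim ↥(π.fiber x) ≤ (1 : ℕ)) :
    IsZero ((Coh.RpushAb π 1).obj (Coh.toAb (Coh.structureModule S))) ↔
      Curv2.euler k S (Coh.structureModule S) = Curv2.euler k X (Coh.structureModule X) := by
  haveI := Groth.L21.RR.isNoetherian_of_proper (X := X) k
  haveI := Groth.L21.RR.isNoetherian_of_proper (X := S) k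
  haveI := Groth.L17.PushQCoh.hasInjectiveResolutions S
  haveI := Groth.L17.PushQCoh.additive_push π
  haveI : IsProper (π ≫ (X ↘ Spec (CommRingCat.of k))) := by rw [hπ]; infer_instance
  haveI : IsProper π := IsProper.of_comp π (X ↘ Spec (CommRingCat.of k))
  let O := Coh.structureModule S
  have hO : Coh.IsCoh O := Groth.L18.Ample.isCoh_of_isInvertible (Groth.L18.Ample.isInvertible_structureModule S)
  haveI : Coh.IsQCoh O := hO.1
  let R := (Coh.Rpush π 1).obj O
  have hsupp : SuppClosed R := fun x hx =>
    Groth.L19.VanishFibre.subsingleton_stalk_Rpush π x (fiber_dim_le_zero π U (hU x hx)) O hO one_pos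
  have hz : ∀ i, 2 ≤ i → IsZero ((Coh.Rpush π i).obj O) := fun i hi =>
    (Groth.L21.Mod.isZero_iff_stalk_subsingleton _).2 fun x =>
      Groth.L19.VanishFibre.subsingleton_stalk_Rpush π x (hd x) O hO (by omega)
  haveI : PreservesLimitsOfSize.{0, 0} (Scheme.Modules.pushforward π) :=
    (Scheme.Modules.pullbackPushforwardAdjunction π).rightAdjoint_preservesLimits
  haveI : PreservesFiniteLimits (Scheme.Modules.pushforward π) :=
    PreservesLimitsOfSize.preservesFiniteLimits _
  have hχ := euler_eq_finsum k π hπ O hO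
  rw [finsum_eq_sum_of_support_subset _ (s := Finset.range 2) fun i hi => by
      by_contra hc
      rw [Finset.coe_range, Set.mem_Iio, not_lt] at hc
      exact hi (by simp [Groth.L03.Euler.euler_of_isZero (k := k) (hz i hc)]),
    Finset.sum_range_succ, Finset.sum_range_one,
    Groth.L21.RR.euler_congr k ((Scheme.Modules.pushforward π).rightDerivedZeroIsoSelf.app O ≪≫ e),
    Groth.L21.RR.euler_eq_h0_of_suppClosed k hsupp] at hχ
  simp only [pow_zero, pow_one, one_mul, neg_mul] at hχ
  have hiff : Curv2.euler k S O = Curv2.euler k X (Coh.structureModule X) ↔ h k 0 R = 0 := by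
    rw [hχ]; omega
  rw [hiff]
  obtain ⟨eR⟩ := Groth.L17.nonempty_toAb_Rpush_iso π O 1
  constructor
  · intro hR
    haveI := Groth.L03.Euler.subsingleton_HH_of_isZero
      (Groth.L17.PushQCoh.isZero_of_toAb (hR.of_iso eR)) 0
    exact Module.finrank_zero_of_subsingleton
  · intro h0
    haveI := Groth.L16.ProperFinite.finite_HH k (Groth.L17.ProperCoh.isCoh_Rpush π O hO 1) 0
    exact (Functor.map_isZero (Groth.L17.toAbShF X) (isZero_of_suppClosed hsupp
      (Module.finrank_zero_iff.1 h0))).of_iso eR.symm

omit [S.Over (Spec (CommRingCat.of k))] [IsProper (S ↘ Spec (CommRingCat.of k))] in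
include k in
/-- Non-closed points of a normal surface are regular. -/
theorem regular_of_not_isClosed (hd : topologicalKrullDim X ≤ 2) (hN : Pi1.IsNormalScheme X)
    {x : X} (hx : ¬ IsClosed ({x} : Set X)) : IsRegularLocalRing (X.presheaf.stalk x) := by
  haveI := Groth.L21.RR.isNoetherian_of_proper (X := X) k
  obtain ⟨b, hb, hne⟩ : ∃ b ∈ closure ({x} : Set X), b ≠ x := by
    by_contra hc
    push Not at hc
    exact hx (closure_subset_iff_isClosed.1 fun b hb => hc b hb)
  have hlt := (Groth.L06.FibTrdeg.ringKrullDim_stalk_lt (specializes_iff_mem_closure.2 hb) hne.symm).trans_le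
    ((Groth.L21.SmoothDescent.ringKrullDim_stalk_le b).trans hd)
  haveI := (hN x).1
  haveI := (hN x).2
  refine Groth.L06.NormalAscent.regular_of_normal_dim_le_one ?_
  revert hlt
  generalize ringKrullDim (X.presheaf.stalk x) = t
  intro ht
  induction t with
  | bot => exact bot_le
  | coe a =>
    rw [show (2 : WithBot ℕ∞) = ((2 : ℕ∞) : WithBot ℕ∞) from rfl, WithBot.coe_lt_coe] at ht
    rw [show (1 : WithBot ℕ∞) = ((1 : ℕ∞) : WithBot ℕ∞) from rfl, WithBot.coe_le_coe]
    exact ENat.lt_add_one_iff (by simp) |>.1 (by rwa [show (1 : ℕ∞) + 1 = 2 from one_add_one_eq_two])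

/-- A fibre over a point of the base of a surface is at most one-dimensional when it is not everything. -/
theorem fiber_dim_le_one [IrreducibleSpace S] (hdS : topologicalKrullDim S = 2) {x : X}
    (hxc : IsClosed ({x} : Set X)) (hne : ∃ s : S, π.base s ≠ x) :
    topologicalKrullDim ↥(π.fiber x) ≤ (1 : ℕ) := by
  obtain ⟨s, hs⟩ := hne
  have h1 := Groth.L03.Euler.topologicalKrullDim_add_one_le (hxc.preimage π.base.hom.continuous)
    (IrreducibleSpace.isIrreducible_univ S) (Set.subset_univ _) fun h => hs (h.ge (Set.mem_univ s))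
  rw [(π.fiberHomeo x).isHomeomorph.topologicalKrullDim_eq]
  rw [(Homeomorph.Set.univ S).isHomeomorph.topologicalKrullDim_eq, hdS] at h1
  exact (Groth.L05.LocalForm.le_one_of_add_one_le_two h1).trans_eq Nat.cast_one.symm

end Groth.L16.LerayEuler
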