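import Groth.Agent.L00.RDerLES
import Groth.Agent.L17.PushQCoh
import Groth.Agent.L17.CohSections
import Groth.Agent.L17.CoverVanishing
import Groth.Agent.L21.Mod.Locality
import Groth.Agent.L26.Pic0.Edge
import Mathlib.CategoryTheory.Abelian.RightDerived

/-!
# Dimension shifting for right derived functors; bounded higher direct images
-/

set_option autoImplicit false
set_option linter.style.haveILetI false
set_option backward.isDefEq.respectTransparency false

universe w v u v' u'

open CategoryTheory CategoryTheory.Limits CategoryTheory.Pretriangulated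
open Groth.L17.GrothSS

noncomputable section

namespace Groth.L16.LerayEuler

section Shift

variable {C : Type u} [Category.{v} C] [Abelian C] [EnoughInjectives C] [HasInjectiveResolutions C]
  {D : Type u'} [Category.{v'} D] [Abelian D] (S : C ⥤ D) [S.Additive]

/-- Dimension shifting along a short exact sequence with injective middle term. -/
theorem nonempty_shift {T : ShortComplex C} (hT : T.ShortExact) [Injective T.X₂] (i : ℕ) :
    Nonempty ((S.rightDerived (i + 1)).obj T.X₃ ≅ (S.rightDerived (i + 2)).obj T.X₁) := by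
  letI := HasDerivedCategory.standard C
  obtain ⟨δ, hd⟩ := exists_plusTriangle hT
  let F := HomotopyCategory.homologyFunctor D (.up ℤ) 0
  let Tr := (RK S).mapTriangle.obj (Triangle.mk ((DerivedCategory.Plus.singleFunctor C 0).map T.f)
    ((DerivedCategory.Plus.singleFunctor C 0).map T.g) δ)
  have hTr := (RK S).map_distinguished _ hd
  have z : ∀ m : ℕ, IsZero ((HH S ((m + 1 : ℕ) : ℤ)).obj ((DerivedCategory.Plus.singleFunctor C 0).obj T.X₂)) :=
    fun m => (S.isZero_rightDerived_obj_injective_succ m T.X₂).of_iso (hhSingleZeroIso S T.X₂ (m + 1))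
  let d := F.homologySequenceδ Tr ((i + 1 : ℕ) : ℤ) ((i + 2 : ℕ) : ℤ) (by omega)
  haveI : Mono d := (F.homologySequence_exact₃ _ hTr ((i + 1 : ℕ) : ℤ) ((i + 2 : ℕ) : ℤ) (by omega)).mono_g
    ((z i).eq_of_src _ _)
  haveI : Epi d := (F.homologySequence_exact₁ _ hTr ((i + 1 : ℕ) : ℤ) ((i + 2 : ℕ) : ℤ) (by omega)).epi_f
    ((z (i + 1)).eq_of_tgt _ _)
  haveI : IsIso d := isIso_of_mono_of_epi d
  exact ⟨(hhSingleZeroIso S T.X₃ (i + 1)).symm ≪≫ asIso d ≪≫ hhSingleZeroIso S T.X₁ (i + 2)⟩

end Shift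

section Bound

open AlgebraicGeometry TopologicalSpace

attribute [local instance] Groth.L17.PushQCoh.additive_push

/-- Higher direct images of a quasi-coherent module vanish in large degrees. -/
theorem exists_rpush_bound {X Y : Scheme.{u}} (f : Y ⟶ X) [QuasiCompact f] [QuasiSeparated f]
    [CompactSpace X] [QuasiSeparatedSpace Y] [HasInjectiveResolutions Y.Modules] (G : Y.Modules)
    [Coh.IsQCoh G] : ∃ J : ℕ, ∀ j, J ≤ j → IsZero ((Coh.Rpush f j).obj G) := by
  classical
  have hex : ∀ x : X, ∃ V : X.Opens, IsAffineOpen V ∧ x ∈ V := fun x => by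
    obtain ⟨_, ⟨V, hV, rfl⟩, hx, -⟩ :=
      X.isBasis_affineOpens.exists_subset_of_mem_open (Set.mem_univ x) isOpen_univ
    exact ⟨V, hV, hx⟩
  choose V hV hmem using hex
  obtain ⟨t, ht⟩ := isCompact_univ.elim_finite_subcover (fun x => (V x : Set X)) (fun x => (V x).2)
    (fun x _ => Set.mem_iUnion.2 ⟨x, hmem x⟩)
  choose d hd using fun x : X => Groth.L17.exists_bound_qcqs (f ⁻¹ᵁ V x)
    (f.isCompact_preimage (hV x).isCompact)
  refine ⟨t.sup d, fun j hj => ?_⟩
  haveI : Coh.IsQCoh ((Coh.Rpush f j).obj G) := Groth.L17.PushQCoh.isQCoh_Rpush f G j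
  refine Groth.L21.Mod.isZero_of_restrict (fun i : {x // x ∈ t} => (hV i.1).fromSpec) (fun z => ?_) _ fun i => ?_
  · obtain ⟨x, hx, hz⟩ := Set.mem_iUnion₂.1 (ht (Set.mem_univ z))
    obtain ⟨w, hw⟩ : z ∈ Set.range (hV x).fromSpec := (hV x).range_fromSpec.ge hz
    exact ⟨⟨x, hx⟩, w, hw⟩
  · haveI : Subsingleton Γ((Coh.Rpush f j).obj G, V i.1) := by
      haveI : Subsingleton (CategoryTheory.Abelian.Ext (Groth.L17.CohSections.fsU (f ⁻¹ᵁ V i.1)) (Coh.toAb G) j) :=
        subsingleton_of_forall_eq 0 (hd i.1 G j ((Finset.le_sup i.2).trans hj))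
      exact (Groth.L17.CohSections.equiv f (hV i.1) G j).toEquiv.symm.subsingleton
    haveI : Coh.IsQCoh (((Coh.Rpush f j).obj G).restrict (hV i.1).fromSpec) := inferInstance
    refine Groth.Agent.Pic0.isZero_of_subsingleton_Γ_spec _ ?_
    show Subsingleton Γ((Coh.Rpush f j).obj G, (hV i.1).fromSpec ''ᵁ ⊤)
    rw [Scheme.Hom.image_top_eq_opensRange, IsAffineOpen.opensRange_fromSpec]
    infer_instance

end Bound

end Groth.L16.LerayEuler
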